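import Cfsg.Agent.H917.Conj.Basic
import Cfsg.Agent.H686.CharKit

/-!
# CC-subgroups and the conjugation character (helper293)

* `row_of_cc` : if `C` is a subgroup of the simple group `G` with `C(c) = C` for all `1 ≠ c ∈ C` and the nontrivial
  irreducible degrees `d` satisfy `|C|² (|C| - 1) ≤ d²`, then `Row G`.
-/

set_option autoImplicit false

open Cfsg
open scoped ComplexConjugate

namespace Cfsg.Agent.H293.Conj

open Cfsg.Agent.Characters.Core Cfsg.Agent.H430.Conj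

universe u

variable {G : Type u} [Group G] [Finite G]

/-- column orthogonality for one nontrivial irreducible character -/
theorem normSq_le_sub_one {χ : G → ℂ} (hχ : IsIrrCharacter G χ) (h1 : χ ≠ 1) (g : G) :
    Complex.normSq (χ g) + 1 ≤ Nat.card (Subgroup.centralizer ({g} : Set G)) := by
  classical
  have := Cfsg.Agent.Characters.Core.finite_irr (G := G)
  have : Fintype (IrrCharacter G) := Fintype.ofFinite _
  rw [← Cfsg.Agent.H686.CharKit.sum_normSq g]
  let a : IrrCharacter G := ⟨χ, hχ⟩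
  let o : IrrCharacter G := ⟨1, isIrr_one⟩
  have hne : a ≠ o := fun h => h1 (congrArg Subtype.val h)
  have h2 : ∑ η ∈ ({a, o} : Finset (IrrCharacter G)), Complex.normSq ((η : G → ℂ) g)
      ≤ ∑ η : IrrCharacter G, Complex.normSq ((η : G → ℂ) g) :=
    Finset.sum_le_sum_of_subset_of_nonneg (Finset.subset_univ _) fun _ _ _ => Complex.normSq_nonneg _
  rw [Finset.sum_pair hne] at h2
  have h3 : Complex.normSq ((o : G → ℂ) g) = 1 := by
    change Complex.normSq ((1 : G → ℂ) g) = 1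
    simp
  rw [h3] at h2
  exact h2

/-- **Tool M, basic form**: `C` is a CC-subgroup of order `t`. -/
theorem row_of_cc {C : Subgroup G} (hC1 : C ≠ ⊥) (hC : ∀ c ∈ C, c ≠ 1 → Subgroup.centralizer {c} = C)
    (hd : ∀ (χ : G → ℂ) (d : ℕ), IsIrrCharacter G χ → χ ≠ 1 → χ 1 = d →
      (Nat.card C) ^ 2 * (Nat.card C - 1) ≤ d ^ 2) : Row G := by
  classical
  intro χ hχ
  by_cases h1 : χ = 1
  · exact ⟨1, h1 ▸ hasFix_one _⟩
  obtain ⟨x, hx, hx1⟩ := (Subgroup.bot_or_exists_ne_one C).resolve_left hC1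
  refine ⟨x, ?_⟩
  rw [hC x hx hx1]
  intro h0
  obtain ⟨d, -, hd1⟩ := isIrr_apply_one hχ
  have hle := hd χ d hχ h1 hd1
  have : Fintype C := Fintype.ofFinite C
  rw [finsum_eq_sum_of_fintype, ← Finset.add_sum_erase _ _ (Finset.mem_univ (1 : C))] at h0
  have hcard : ((Finset.univ.erase (1 : C)).card : ℝ) = (Nat.card C : ℝ) - 1 := by
    rw [Finset.card_erase_of_mem (Finset.mem_univ _), Finset.card_univ, Nat.card_eq_fintype_card,
      Nat.cast_sub Fintype.card_pos]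
    simp
  have h2 : ∀ c ∈ Finset.univ.erase (1 : C), ‖χ c‖ ^ 2 ≤ (Nat.card C : ℝ) - 1 := by
    intro c hc
    have h3 := normSq_le_sub_one hχ h1 (c : G)
    rw [hC c c.2 (fun h => (Finset.mem_erase.1 hc).1 (Subtype.ext h)), Complex.normSq_eq_norm_sq] at h3
    linarith
  have h3 : (d : ℝ) = ‖∑ c ∈ Finset.univ.erase (1 : C), χ c‖ := by
    have h4 : (d : ℂ) = -∑ c ∈ Finset.univ.erase (1 : C), χ c := by
      rw [← hd1]
      exact eq_neg_of_add_eq_zero_left h0
    have h5 := congrArg norm h4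
    rw [norm_neg, Complex.norm_natCast] at h5
    exact h5
  have h4 : (d : ℝ) ≤ ∑ c ∈ Finset.univ.erase (1 : C), ‖χ c‖ := by
    rw [h3]
    exact norm_sum_le _ _
  have h5 : (d : ℝ) ^ 2 ≤ ((Nat.card C : ℝ) - 1) ^ 3 := by
    calc (d : ℝ) ^ 2 ≤ (∑ c ∈ Finset.univ.erase (1 : C), ‖χ c‖) ^ 2 :=
          pow_le_pow_left₀ (Nat.cast_nonneg d) h4 2
      _ ≤ ((Finset.univ.erase (1 : C)).card : ℝ) * ∑ c ∈ Finset.univ.erase (1 : C), ‖χ c‖ ^ 2 :=
          sq_sum_le_card_mul_sum_sq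
      _ ≤ ((Finset.univ.erase (1 : C)).card : ℝ) * ∑ c ∈ Finset.univ.erase (1 : C), ((Nat.card C : ℝ) - 1) :=
          mul_le_mul_of_nonneg_left (Finset.sum_le_sum h2) (Nat.cast_nonneg _)
      _ = ((Nat.card C : ℝ) - 1) ^ 3 := by
          rw [Finset.sum_const, nsmul_eq_mul, hcard]; ring
  have h6 : 2 ≤ Nat.card C := by
    have h7 : Nat.card C ≠ 1 := fun h => hC1 (Subgroup.card_eq_one.1 h)
    have h8 : 0 < Nat.card C := Nat.card_pos
    omega
  obtain ⟨m, hm⟩ : ∃ m, Nat.card C = m + 2 := ⟨Nat.card C - 2, by omega⟩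
  rw [hm] at hle h5
  have h7 : d ^ 2 ≤ (m + 1) ^ 3 := by
    have h8 : ((m + 2 : ℕ) : ℝ) - 1 = ((m + 1 : ℕ) : ℝ) := by push_cast; ring
    rw [h8] at h5
    exact_mod_cast h5
  have h9 : (m + 2) ^ 2 * (m + 1) ≤ (m + 1) ^ 3 := by
    have : (m + 2) ^ 2 * (m + 2 - 1) ≤ (m + 1) ^ 3 := hle.trans h7
    simpa using this
  nlinarith

end Cfsg.Agent.H293.Conj
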