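import Cfsg.Agent.H293.Conj.E8CC
import Cfsg.Agent.H293.Conj.CC
import Cfsg.Agent.S1054
import Cfsg.Agent.S2339

/-!
# The row `E₈(q)` of S4792 (helper293)
-/

set_option autoImplicit false

namespace Cfsg.Agent.H293.Conj.RowE8

open Cfsg Cfsg.Lie Cfsg.Agent.H430.Conj Cfsg.Agent.Characters.Core

theorem phi_le {q : ℕ} (hq : 2 ≤ q) : ((Polynomial.cyclotomic 30 ℤ).eval ((q : ℕ) : ℤ)).natAbs ≤ q ^ 9 := by
  rw [H416.Arith.eval_30]
  have hq' : (2 : ℤ) ≤ q := by exact_mod_cast hq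
  generalize hx : ((q : ℕ) : ℤ) = x at *
  have h1 : (1 : ℤ) ≤ x := by omega
  have hx2 : (4 : ℤ) ≤ x * x := by nlinarith
  have h3 : x + 1 ≤ x ^ 3 := by
    have e : x ^ 3 = x * (x * x) := by ring
    have := mul_le_mul_of_nonneg_left hx2 (by omega : (0 : ℤ) ≤ x)
    omega
  have h5 : x ^ 3 ≤ x ^ 5 := pow_le_pow_right₀ h1 (by norm_num)
  have h4 : (0 : ℤ) ≤ x ^ 4 := by positivity
  have h7 : x ^ 5 ≤ x ^ 7 := pow_le_pow_right₀ h1 (by norm_num)
  have h8 : x ^ 7 ≤ x ^ 8 := pow_le_pow_right₀ h1 (by norm_num)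
  have h9 : 2 * x ^ 8 ≤ x ^ 9 := by
    have : x ^ 9 = x * x ^ 8 := by ring
    rw [this]
    exact mul_le_mul_of_nonneg_right hq' (by positivity)
  have h34 : x ^ 3 ≤ x ^ 7 := h5.trans h7
  have h48 : x ^ 4 ≤ x ^ 8 := pow_le_pow_right₀ h1 (by norm_num)
  have h57 : x ^ 5 ≤ x ^ 7 := h7
  zify
  rw [abs_le, hx]
  constructor <;> nlinarith

theorem deg_ne_one {G : Type*} [Group G] [IsSimpleGroup G] (hG : ¬ IsMulCommutative G) {n : ℕ}
    {ρ : Representation ℂ G (Fin n → ℂ)} (hρ : ρ.IsIrreducible) (h1 : ρ.character ≠ 1) : 2 ≤ n := by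
  have hinj := injective_of_simple hρ h1
  by_contra hn
  apply hG
  refine ⟨⟨fun a b => hinj ?_⟩⟩
  rw [map_mul, map_mul]
  have : n = 0 ∨ n = 1 := by omega
  rcases this with rfl | rfl
  · exact Subsingleton.elim _ _
  · have h2 : ∀ (f : Module.End ℂ (Fin 1 → ℂ)) (v : Fin 1 → ℂ), f v = (f (fun _ => 1)) 0 • v := by
      intro f v
      have h3 : v = v 0 • (fun _ => (1 : ℂ)) := by
        ext k
        rw [Subsingleton.elim k 0]
        simp
      conv_lhs => rw [h3, map_smul]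
      ext k
      rw [Subsingleton.elim k 0]
      simp [mul_comm]
    have h4 : ∀ f g : Module.End ℂ (Fin 1 → ℂ), f * g = g * f := by
      intro f g
      apply LinearMap.ext
      intro v
      rw [Module.End.mul_apply, Module.End.mul_apply, h2 g v, h2 f v, map_smul, map_smul, h2 f v, h2 g v, smul_comm]
    exact h4 _ _

theorem row_chev (F : Type) [Field F] [Fintype F] : Row ↥(chevE8.group F) := by
  have hs := S1054.result (F := F) chevE8 (by simp)
  have := hs.1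
  obtain ⟨C, hC1, hC, hN⟩ := E8CC.exists_cc F
  refine row_of_cc hC1 hC fun χ d hχ hχ1 hd => ?_
  have hq : 2 ≤ Nat.card F := Finite.one_lt_card
  obtain ⟨n, ρ, hρ, rfl⟩ := hχ
  have hdn : n = d := by
    have h1 : ρ.character 1 = n := by
      rw [Representation.char_one]
      simp
    rw [h1] at hd
    exact_mod_cast hd
  subst hdn
  have hn := S2339.result n ρ hρ (deg_ne_one hs.2 hρ hχ1)
  rw [← Nat.card_eq_fintype_card] at hn
  have hpos : 0 < ((Polynomial.cyclotomic 30 ℤ).eval ((Nat.card F : ℕ) : ℤ)).natAbs := by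
    have := Polynomial.sub_one_lt_natAbs_cyclotomic_eval (n := 30) (q := Nat.card F) (by norm_num) (by omega)
    omega
  have hle := (Nat.le_of_dvd hpos hN).trans (phi_le hq)
  generalize Nat.card F = q at *
  have h29 : q ^ 29 ≤ n := le_trans (by
    calc q ^ 29 = q * q ^ 12 * q ^ 10 * q ^ 6 := by ring
      _ ≤ _ := Nat.mul_le_mul (Nat.mul_le_mul (Nat.mul_le_mul le_rfl (Nat.le_succ _)) (Nat.le_succ _)) (Nat.le_succ _)) hn
  calc Nat.card C ^ 2 * (Nat.card C - 1) ≤ (q ^ 9) ^ 2 * q ^ 9 :=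
        Nat.mul_le_mul (Nat.pow_le_pow_left hle 2) ((Nat.sub_le _ _).trans hle)
    _ = q ^ 27 := by ring
    _ ≤ q ^ 58 := Nat.pow_le_pow_right (by omega) (by norm_num)
    _ = (q ^ 29) ^ 2 := by ring
    _ ≤ n ^ 2 := Nat.pow_le_pow_left h29 2

/-- **Row `E₈`.** -/
theorem row_e8 {S : Type*} [Group S] [Finite S] (_hs : IsSimpleGroup S) (h : Lie.IsoE8 S) :
    Cfsg.Agent.H430.Conj.Row S := by
  obtain ⟨F, _, _, ⟨e⟩⟩ := h
  exact (row_chev F).of_equiv e.symm

end Cfsg.Agent.H293.Conj.RowE8
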